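import Groth.Agent.H23.RatExtend
import Groth.Agent.RegLoc6.Basic
import Mathlib.RingTheory.DiscreteValuationRing.TFAE
import Mathlib.AlgebraicGeometry.SpreadingOut

/-!
Sections of separated closed morphisms of finite type extend over points of codimension `≤ 1` with
regular local rings.
-/

universe u

open CategoryTheory Limits AlgebraicGeometry TopologicalSpace

namespace Groth.Agent.CodimExt16

theorem valuationRing_of_regular (R : Type u) [CommRing R] [IsRegularLocalRing R] [IsDomain R]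
    (h : ringKrullDim R ≤ 1) : ValuationRing R := by
  have h1 := (isRegularLocalRing_iff R).1 inferInstance
  have h2 : (IsLocalRing.maximalIdeal R).spanFinrank ≤ 1 := by
    rw [← h1] at h
    exact_mod_cast h
  have hp : (IsLocalRing.maximalIdeal R).IsPrincipal := by
    obtain ⟨s, hs⟩ := Submodule.FG.exists_span_set_encard_eq_spanFinrank
      (IsNoetherian.noetherian (IsLocalRing.maximalIdeal R))
    have h3 : s.encard ≤ 1 := by
      rw [hs.1]
      exact_mod_cast h2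
    rcases Set.encard_le_one_iff_subsingleton.1 h3 |>.eq_empty_or_singleton with rfl | ⟨x, rfl⟩
    · exact ⟨0, by rw [← hs.2]; simp⟩
    · exact ⟨x, hs.2.symm⟩
  exact ((tfae_of_isNoetherianRing_of_isLocalRing_of_isDomain (R := R)).out 1 4).2 hp

/-- The extension of a rational section of a closed map over a point whose local ring is a valuation
ring. -/
theorem exists_lift {X Y : Scheme.{u}} [IsIntegral Y] (f : X ⟶ Y) (hcl : IsClosedMap f.base)
    (σ : Spec (Y.presheaf.stalk (genericPoint Y)) ⟶ X)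
    (hσ : σ ≫ f = Y.fromSpecStalk _) (y : Y) (hv : ValuationRing (Y.presheaf.stalk y)) :
    ∃ φ : Spec (Y.presheaf.stalk y) ⟶ X, φ ≫ f = Y.fromSpecStalk y ∧
      Spec.map (Y.presheaf.stalkSpecializes (genericPoint_specializes y)) ≫ φ = σ := by
  let ξ := σ (IsLocalRing.closedPoint (Y.presheaf.stalk (genericPoint Y)))
  have hξ : f ξ = genericPoint Y := by
    show f (σ _) = _
    rw [← Scheme.Hom.comp_apply, hσ]
    exact Scheme.fromSpecStalk_closedPoint
  have hy : y ∈ f '' closure ({ξ} : Set X) :=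
    (hcl _ isClosed_closure).closure_subset_iff.2
      (Set.singleton_subset_iff.2 ⟨ξ, subset_closure (Set.mem_singleton ξ), hξ⟩)
      (specializes_iff_mem_closure.1 (genericPoint_specializes y))
  obtain ⟨x, hx, rfl⟩ := hy
  have hxs : ξ ⤳ x := specializes_iff_mem_closure.2 hx
  let a : X.presheaf.stalk x ⟶ Y.presheaf.stalk (genericPoint Y) :=
    X.presheaf.stalkSpecializes hxs ≫ Scheme.stalkClosedPointTo σ
  have ha : Spec.map a ≫ X.fromSpecStalk x = σ := by
    simp only [a, Spec.map_comp, Category.assoc, Scheme.SpecMap_stalkSpecializes_fromSpecStalk]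
    exact Scheme.Spec_stalkClosedPointTo_fromSpecStalk σ
  have hd : IsDomain (Y.presheaf.stalk (f x)) :=
    Function.Injective.isDomain _ (IsFractionRing.injective (Y.presheaf.stalk (f x)) Y.functionField)
  let j := Y.presheaf.stalkSpecializes (genericPoint_specializes (f x))
  have hj : Function.Injective j.hom := IsFractionRing.injective (Y.presheaf.stalk (f x)) Y.functionField
  have hk : f.stalkMap x ≫ a = j := by
    apply Spec.map_injective
    rw [← cancel_mono (Y.fromSpecStalk _), Spec.map_comp, Category.assoc,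
      Scheme.SpecMap_stalkMap_fromSpecStalk, reassoc_of% ha, hσ,
      Scheme.SpecMap_stalkSpecializes_fromSpecStalk]
  have hrange : ∀ c, a.hom c ∈ j.hom.range := by
    intro c
    rcases ValuationRing.isInteger_or_isInteger (Y.presheaf.stalk (f x)) (K := Y.functionField)
      (a.hom c) with h | h
    · exact h
    · obtain ⟨d, hd'⟩ := h
      have hd'' : j.hom d = (show Y.functionField from a.hom c)⁻¹ := hd'
      by_cases h0 : a.hom c = 0
      · rw [h0]; exact zero_mem _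
      have hne : (show Y.functionField from a.hom c) ≠ 0 := h0
      by_cases hu : IsUnit d
      · refine ⟨↑hu.unit⁻¹, ?_⟩
        have e : j.hom ↑hu.unit⁻¹ * j.hom d = 1 := by rw [← map_mul, hu.val_inv_mul, map_one]
        rw [hd''] at e
        exact (mul_inv_eq_one₀ hne).1 e
      · exfalso
        have hm : f.stalkMap x d * c ∈ IsLocalRing.maximalIdeal (X.presheaf.stalk x) :=
          Ideal.mul_mem_right _ _ fun h' => hu (isUnit_of_map_unit (f.stalkMap x).hom d h')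
        have hker : a.hom (1 - f.stalkMap x d * c) = 0 := by
          rw [map_sub, map_one, map_mul]
          have e : a.hom (f.stalkMap x d) = j.hom d := by rw [← hk]; rfl
          rw [e, hd'', sub_eq_zero]
          exact (inv_mul_cancel₀ hne).symm
        have h1 : ¬ IsUnit (1 - f.stalkMap x d * c) := fun h' => by
          have := h'.map a.hom
          rw [hker] at this
          exact not_isUnit_zero this
        have := Ideal.add_mem _ ((IsLocalRing.mem_maximalIdeal _).2 h1) hm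
        rw [sub_add_cancel] at this
        exact (IsLocalRing.mem_maximalIdeal _).1 this isUnit_one
  let ψ : X.presheaf.stalk x ⟶ Y.presheaf.stalk (f x) := CommRingCat.ofHom
    ((RingEquiv.ofBijective j.hom.rangeRestrict
      ⟨fun p q h => hj (congrArg Subtype.val h), j.hom.rangeRestrict_surjective⟩).symm.toRingHom.comp
      (a.hom.codRestrict j.hom.range hrange))
  have hψ : ψ ≫ j = a := by
    refine CommRingCat.hom_ext (RingHom.ext fun c => ?_)
    exact congrArg Subtype.val ((RingEquiv.ofBijective j.hom.rangeRestrict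
      ⟨fun p q h => hj (congrArg Subtype.val h), j.hom.rangeRestrict_surjective⟩).apply_symm_apply
      (a.hom.codRestrict j.hom.range hrange c))
  have hψ' : f.stalkMap x ≫ ψ = 𝟙 _ := by
    refine CommRingCat.hom_ext (RingHom.ext fun c => hj ?_)
    show (ψ ≫ j).hom (f.stalkMap x c) = j.hom c
    rw [hψ, ← hk]
    rfl
  refine ⟨Spec.map ψ ≫ X.fromSpecStalk x, ?_, ?_⟩
  · rw [Category.assoc, ← Scheme.SpecMap_stalkMap_fromSpecStalk, ← Category.assoc, ← Spec.map_comp,
      hψ', Spec.map_id, Category.id_comp]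
  · rw [← Category.assoc, ← Spec.map_comp]
    exact hψ.symm ▸ ha

/-- The local extension at one point of an integral base. -/
theorem exists_nhd_integral {X Y : Scheme.{u}} [IsIntegral Y] [Y.IsSeparated] (f : X ⟶ Y) [IsSeparated f]
    [LocallyOfFiniteType f] (hcl : IsClosedMap f.base) (V : Y.Opens) (hV : (V : Set Y).Nonempty)
    (s : V.toScheme ⟶ X) (hs : s ≫ f = V.ι) (y : Y) (hv : ValuationRing (Y.presheaf.stalk y)) :
    ∃ (W : Y.Opens) (H : W.toScheme ⟶ X), y ∈ W ∧ H ≫ f = W.ι ∧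
      Y.homOfLE (inf_le_left : W ⊓ V ≤ W) ≫ H = Y.homOfLE inf_le_right ≫ s := by
  have : X.IsSeparated := by
    constructor
    rw [← terminal.comp_from f]
    infer_instance
  have hgV : genericPoint Y ∈ V := H23.RatExtend.genericPoint_mem V hV.choose_spec
  let σ := V.fromSpecStalkOfMem (genericPoint Y) hgV ≫ s
  have hσ : σ ≫ f = Y.fromSpecStalk _ := by
    rw [Category.assoc, hs, Scheme.Opens.fromSpecStalkOfMem_ι]
  obtain ⟨φ, hφ, hφσ⟩ := exists_lift f hcl σ hσ y hv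
  obtain ⟨W, hgW, H, hT, hH, hH₀⟩ := H23.RatExtend.extend (𝟙 Y) f σ (by rw [hσ, Category.comp_id]) {y}
    (by
      rintro p rfl
      exact ⟨φ, by rw [hφ, Category.comp_id], hφσ⟩)
  rw [Category.comp_id] at hH
  refine ⟨W, H, hT rfl, hH, ?_⟩
  have hgWV : genericPoint Y ∈ W ⊓ V := ⟨hgW, hgV⟩
  have := H23.RatExtend.isDominant_fromSpecStalkOfMem _ hgWV
  refine ext_of_isDominant_of_isSeparated f ?_ ((W ⊓ V).fromSpecStalkOfMem (genericPoint Y) hgWV) ?_
  · rw [Category.assoc, Category.assoc, hH, hs, Scheme.homOfLE_ι, Scheme.homOfLE_ι]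
  · have e : ∀ (Z : Y.Opens) (hle : W ⊓ V ≤ Z), (W ⊓ V).fromSpecStalkOfMem (genericPoint Y) hgWV ≫
        Y.homOfLE hle = Z.fromSpecStalkOfMem (genericPoint Y) (hle hgWV) := fun Z hle => by
      rw [← cancel_mono Z.ι, Category.assoc, Scheme.homOfLE_ι, Scheme.Opens.fromSpecStalkOfMem_ι,
        Scheme.Opens.fromSpecStalkOfMem_ι]
    rw [← Category.assoc, e W, ← Category.assoc, e V]
    exact hH₀

/-- The local extension at one point. -/
theorem exists_nhd {X Y : Scheme.{u}} [IsLocallyNoetherian Y] (f : X ⟶ Y) [IsSeparated f]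
    [LocallyOfFiniteType f] (hcl : IsClosedMap f.base) (V : Y.Opens) (hV : Dense (V : Set Y))
    (s : V.toScheme ⟶ X) (hs : s ≫ f = V.ι) (y : Y) (hdim : ringKrullDim (Y.presheaf.stalk y) ≤ 1)
    (hreg : IsRegularLocalRing (Y.presheaf.stalk y)) :
    ∃ (W : Y.Opens) (H : W.toScheme ⟶ X), y ∈ W ∧ H ≫ f = W.ι ∧
      Y.homOfLE (inf_le_left : W ⊓ V ≤ W) ≫ H = Y.homOfLE inf_le_right ≫ s := by
  have hd := RegLoc6.isDomain_of_isRegularLocalRing (Y.presheaf.stalk y)
  obtain ⟨U, hyU, hU, hinj⟩ := Y.exists_germ_injective y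
  have hdU : IsDomain Γ(Y, U) := Function.Injective.isDomain (Y.presheaf.germ U y hyU).hom hinj
  have : IsIntegral U.toScheme :=
    IsIntegral.of_isIso hU.isoSpec.inv
  have : IsAffine U.toScheme := hU
  let y' : U.toScheme := ⟨y, hyU⟩
  let e := (U.stalkIso y').commRingCatIsoToRingEquiv
  have hv : ValuationRing (U.toScheme.presheaf.stalk y') := by
    have hvy := valuationRing_of_regular (Y.presheaf.stalk y) hdim
    have : IsDomain (U.toScheme.presheaf.stalk y') := e.injective.isDomain e.toRingHom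
    have : IsDomain (Y.presheaf.stalk (U.ι y')) := hd
    have : ValuationRing (Y.presheaf.stalk (U.ι y')) := hvy
    exact H23.RatExtend.valuationRing_of_ringEquiv e.symm
  let V' : U.toScheme.Opens := U.ι ⁻¹ᵁ V
  have hne : (V' : Set U.toScheme).Nonempty := by
    obtain ⟨z, hzV, hzU⟩ := hV.inter_open_nonempty U U.2 ⟨y, hyU⟩ |>.imp fun z hz => And.intro hz.2 hz.1
    exact ⟨⟨z, hzU⟩, hzV⟩
  let p : V'.toScheme ⟶ V.toScheme := IsOpenImmersion.lift V.ι (V'.ι ≫ U.ι) (by
    rintro _ ⟨z, rfl⟩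
    rw [Scheme.Opens.range_ι]
    exact z.2)
  have hp : p ≫ V.ι = V'.ι ≫ U.ι := IsOpenImmersion.lift_fac _ _ _
  let s' : V'.toScheme ⟶ (f ⁻¹ᵁ U).toScheme := IsOpenImmersion.lift (f ⁻¹ᵁ U).ι (p ≫ s) (by
    rintro _ ⟨z, rfl⟩
    rw [Scheme.Opens.range_ι]
    show f ((p ≫ s) z) ∈ U
    rw [← Scheme.Hom.comp_apply, Category.assoc, hs, hp]
    exact z.1.2)
  have hs'ι : s' ≫ (f ⁻¹ᵁ U).ι = p ≫ s := IsOpenImmersion.lift_fac _ _ _
  have hs' : s' ≫ f ∣_ U = V'.ι := by
    rw [← cancel_mono U.ι, Category.assoc, morphismRestrict_ι, reassoc_of% hs'ι, hs, hp]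
  obtain ⟨W₀, H₀, hyW, hH₀, hcomp⟩ := exists_nhd_integral (f ∣_ U)
    (by rw [morphismRestrict_base]; exact hcl.restrictPreimage U.1) V' hne s' hs' y' hv
  let W : Y.Opens := U.ι ''ᵁ W₀
  let H : W.toScheme ⟶ X := (U.ι.isoImage W₀).inv ≫ H₀ ≫ (f ⁻¹ᵁ U).ι
  have hH : H ≫ f = W.ι := by
    simp only [H, Category.assoc]
    rw [← morphismRestrict_ι, reassoc_of% hH₀, Scheme.Hom.isoImage_inv_ι]
  refine ⟨W, H, ⟨y', hyW, rfl⟩, hH, ?_⟩
  -- compare on `W ⊓ V`, which is the image of `W₀ ⊓ V'`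
  let j : (W ⊓ V).toScheme ⟶ (W₀ ⊓ V').toScheme := IsOpenImmersion.lift ((W₀ ⊓ V').ι ≫ U.ι) (W ⊓ V).ι (by
    rintro _ ⟨⟨z, ⟨w, hw, rfl⟩, hzV⟩, rfl⟩
    exact ⟨⟨w, hw, hzV⟩, rfl⟩)
  have hj : j ≫ (W₀ ⊓ V').ι ≫ U.ι = (W ⊓ V).ι := IsOpenImmersion.lift_fac _ _ _
  have e1 : j ≫ U.toScheme.homOfLE inf_le_left = Y.homOfLE inf_le_left ≫ (U.ι.isoImage W₀).inv := by
    rw [← cancel_mono (W₀.ι ≫ U.ι), Category.assoc, Category.assoc, Scheme.homOfLE_ι_assoc, hj,
      Scheme.Hom.isoImage_inv_ι, Scheme.homOfLE_ι]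
  have e2 : j ≫ U.toScheme.homOfLE inf_le_right ≫ p = Y.homOfLE inf_le_right := by
    rw [← cancel_mono V.ι, Category.assoc, Category.assoc, hp, Scheme.homOfLE_ι_assoc, hj,
      Scheme.homOfLE_ι]
  calc Y.homOfLE inf_le_left ≫ H
      = j ≫ (U.toScheme.homOfLE inf_le_left ≫ H₀) ≫ (f ⁻¹ᵁ U).ι := by
        simp only [H, Category.assoc]; rw [reassoc_of% e1]
    _ = j ≫ U.toScheme.homOfLE inf_le_right ≫ p ≫ s := by rw [hcomp, Category.assoc, hs'ι]
    _ = Y.homOfLE inf_le_right ≫ s := by rw [← Category.assoc _ p s, ← Category.assoc, e2]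

/-- Gluing: the extension to all points of codimension `≤ 1`. -/
theorem exists_extension {X Y : Scheme.{u}} [IsLocallyNoetherian Y] [IsReduced Y]
    (hreg : ∀ y : Y, ringKrullDim (Y.presheaf.stalk y) ≤ 1 → IsRegularLocalRing (Y.presheaf.stalk y))
    (f : X ⟶ Y) [IsSeparated f] [LocallyOfFiniteType f] (hcl : IsClosedMap f.base)
    (V : Y.Opens) (hV : Dense (V : Set Y)) (s : V.toScheme ⟶ X) (hs : s ≫ f = V.ι) :
    ∃ (U : Y.Opens) (hVU : V ≤ U) (s' : U.toScheme ⟶ X), s' ≫ f = U.ι ∧ Y.homOfLE hVU ≫ s' = s ∧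
      ∀ y : Y, ringKrullDim (Y.presheaf.stalk y) ≤ 1 → y ∈ U := by
  choose W H hyW hH hcomp using fun z : {y : Y // ringKrullDim (Y.presheaf.stalk y) ≤ 1} =>
    exists_nhd f hcl V hV s hs z.1 z.2 (hreg z.1 z.2)
  let T : Option {y : Y // ringKrullDim (Y.presheaf.stalk y) ≤ 1} → Y.Opens := fun o => o.elim V W
  let g : ∀ o, (T o).toScheme ⟶ X := fun o => match o with
    | none => s
    | some z => H z
  have hg : ∀ o, g o ≫ f = (T o).ι := fun o => match o with
    | none => hs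
    | some z => hH z
  have hgV : ∀ (o) (Z : Y.Opens) (h₁ : Z ≤ T o) (h₂ : Z ≤ V), Y.homOfLE h₁ ≫ g o = Y.homOfLE h₂ ≫ s := by
    intro o Z h₁ h₂
    cases o with
    | none => rfl
    | some z =>
      have h : Y.homOfLE (le_inf h₁ h₂) ≫ Y.homOfLE inf_le_left ≫ H z =
          Y.homOfLE (le_inf h₁ h₂) ≫ Y.homOfLE inf_le_right ≫ s :=
        congrArg (Y.homOfLE (le_inf h₁ h₂) ≫ ·) (hcomp z)
      rw [Scheme.homOfLE_homOfLE_assoc, Scheme.homOfLE_homOfLE_assoc] at h
      exact h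
  have hagree : ∀ o o', Y.homOfLE (inf_le_left : T o ⊓ T o' ≤ T o) ≫ g o =
      Y.homOfLE inf_le_right ≫ g o' := by
    intro o o'
    let Z := T o ⊓ T o'
    have hdom : IsDominant (Y.homOfLE (inf_le_left : Z ⊓ V ≤ Z)) := by
      refine ⟨dense_iff_inter_open.2 fun O hO hne => ?_⟩
      obtain ⟨O', hO', rfl⟩ := isOpen_induced_iff.1 hO
      obtain ⟨⟨w, hwZ⟩, hw⟩ := hne
      obtain ⟨v, ⟨hvO, hvZ⟩, hvV⟩ := hV.inter_open_nonempty _ (hO'.inter Z.2) ⟨w, hw, hwZ⟩
      exact ⟨⟨v, hvZ⟩, hvO, ⟨⟨v, hvZ, hvV⟩, Subtype.ext (by simp)⟩⟩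
    refine ext_of_isDominant_of_isSeparated f ?_ (Y.homOfLE (inf_le_left : Z ⊓ V ≤ Z)) ?_
    · rw [Category.assoc, Category.assoc, hg, hg, Scheme.homOfLE_ι, Scheme.homOfLE_ι]
    · rw [Scheme.homOfLE_homOfLE_assoc, Scheme.homOfLE_homOfLE_assoc, hgV o (Z ⊓ V) _ inf_le_right,
        hgV o' (Z ⊓ V) _ inf_le_right]
  let 𝒰 := Scheme.Opens.iSupOpenCover T
  have hf : ∀ o o', pullback.fst (𝒰.f o) (𝒰.f o') ≫ g o = pullback.snd (𝒰.f o) (𝒰.f o') ≫ g o' := by
    intro o o'
    have h : pullback.fst (𝒰.f o) (𝒰.f o') ≫ (T o).ι = pullback.snd (𝒰.f o) (𝒰.f o') ≫ (T o').ι := by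
      have h0 := congrArg (fun m => m ≫ (iSup T).ι) (pullback.condition (f := 𝒰.f o) (g := 𝒰.f o'))
      have hT : ∀ o, 𝒰.f o ≫ (iSup T).ι = (T o).ι := fun o => Scheme.homOfLE_ι Y (le_iSup T o)
      simpa only [Category.assoc, hT] using h0
    let q : pullback (𝒰.f o) (𝒰.f o') ⟶ (T o ⊓ T o').toScheme :=
      IsOpenImmersion.lift (T o ⊓ T o').ι (pullback.fst (𝒰.f o) (𝒰.f o') ≫ (T o).ι) (by
        rintro _ ⟨z, rfl⟩
        rw [Scheme.Opens.range_ι]
        refine ⟨(pullback.fst (𝒰.f o) (𝒰.f o') z).2, ?_⟩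
        exact (congrArg (fun m : pullback (𝒰.f o) (𝒰.f o') ⟶ Y => m z) h).symm ▸
          (pullback.snd (𝒰.f o) (𝒰.f o') z).2)
    have hq : q ≫ (T o ⊓ T o').ι = pullback.fst (𝒰.f o) (𝒰.f o') ≫ (T o).ι :=
      IsOpenImmersion.lift_fac _ _ _
    have e1 : q ≫ Y.homOfLE inf_le_left = pullback.fst (𝒰.f o) (𝒰.f o') := by
      rw [← cancel_mono (T o).ι, Category.assoc, Scheme.homOfLE_ι]
      exact hq
    have e2 : q ≫ Y.homOfLE inf_le_right = pullback.snd (𝒰.f o) (𝒰.f o') := by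
      rw [← cancel_mono (T o').ι, Category.assoc, Scheme.homOfLE_ι]
      exact hq.trans h
    have a1 : q ≫ Y.homOfLE inf_le_left ≫ g o = pullback.fst (𝒰.f o) (𝒰.f o') ≫ g o :=
      (Category.assoc q (Y.homOfLE inf_le_left) (g o)).symm.trans (congrArg (· ≫ g o) e1)
    have a2 : q ≫ Y.homOfLE inf_le_right ≫ g o' = pullback.snd (𝒰.f o) (𝒰.f o') ≫ g o' :=
      (Category.assoc q (Y.homOfLE inf_le_right) (g o')).symm.trans (congrArg (· ≫ g o') e2)
    exact a1.symm.trans ((congrArg (q ≫ ·) (hagree o o')).trans a2)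
  refine ⟨iSup T, le_iSup T none, 𝒰.glueMorphisms g hf, ?_, 𝒰.ι_glueMorphisms g hf none,
    fun y hy => le_iSup T (some ⟨y, hy⟩) (hyW ⟨y, hy⟩)⟩
  refine 𝒰.hom_ext _ _ fun o => ?_
  rw [Scheme.Cover.ι_glueMorphisms_assoc]
  exact (hg o).trans (Scheme.homOfLE_ι Y (le_iSup T o)).symm

end Groth.Agent.CodimExt16
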